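import Cfsg.Agent.H35.K4

/-!
Hermitian matrices of size three over the field with four elements: congruence classes and the
fixed points of unitriangular elements.
-/

set_option autoImplicit false
set_option maxRecDepth 100000

namespace H72.U6M

/-- The entries of a Hermitian matrix. -/
structure Hrm (F : Type*) where
  d1 : F
  d2 : F
  d3 : F
  x : F
  y : F
  z : F
deriving DecidableEq

section Generic

variable {F : Type*} [Field F]

/-- The full matrix. -/
def Hrm.mat (t : Hrm F) : Fin 3 → Fin 3 → F :=
  ![![t.d1, t.x, t.y], ![t.x * t.x, t.d2, t.z], ![t.y * t.y, t.z * t.z, t.d3]]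

/-- An entry of `P H P*`. -/
def ent (P H : Fin 3 → Fin 3 → F) (k l : Fin 3) : F :=
  P k 0 * (H 0 0 * (P l 0 * P l 0) + H 0 1 * (P l 1 * P l 1) + H 0 2 * (P l 2 * P l 2)) +
  P k 1 * (H 1 0 * (P l 0 * P l 0) + H 1 1 * (P l 1 * P l 1) + H 1 2 * (P l 2 * P l 2)) +
  P k 2 * (H 2 0 * (P l 0 * P l 0) + H 2 1 * (P l 1 * P l 1) + H 2 2 * (P l 2 * P l 2))

/-- Congruence. -/
def act (P : Fin 3 → Fin 3 → F) (t : Hrm F) : Hrm F :=
  ⟨ent P t.mat 0 0, ent P t.mat 1 1, ent P t.mat 2 2, ent P t.mat 0 1, ent P t.mat 0 2,
    ent P t.mat 1 2⟩

/-- The upper unitriangular matrix with given entries. -/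
def upper (a c b : F) : Fin 3 → Fin 3 → F := ![![1, a, c], ![0, 1, b], ![0, 0, 1]]

/-- An elementary matrix. -/
def elem (i j : Fin 3) (μ : F) : Fin 3 → Fin 3 → F := fun k l =>
  if k = l then 1 else if k = i then (if l = j then μ else 0) else 0

end Generic

open H35.G24

/-- The matrix of a code. -/
def dec (i : ℕ) : Hrm K4 :=
  ⟨K4.ofN (i % 2), K4.ofN (i / 2 % 2), K4.ofN (i / 4 % 2), K4.ofN (i / 8 % 4),
    K4.ofN (i / 32 % 4), K4.ofN (i / 128 % 4)⟩

/-- The code of a matrix. -/
def enc (t : Hrm K4) : ℕ :=
  t.d1.v.val + 2 * t.d2.v.val + 4 * t.d3.v.val + 8 * t.x.v.val + 32 * t.y.v.val + 128 * t.z.v.val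

/-- The twelve elementary congruences. -/
def gen (g : ℕ) : Fin 3 → Fin 3 → K4 :=
  elem (([0, 0, 1, 1, 2, 2] : List (Fin 3)).getD (g / 2) 0)
    (([1, 2, 0, 2, 0, 1] : List (Fin 3)).getD (g / 2) 1) (K4.ofN (g % 2 + 1))

/-- The class of a code. -/
def cls (i : ℕ) : ℕ := Nat.land (Nat.shiftRight 6462906049249416226410452782439616921846226194756269298057678675565870952305460100627577021891407534030430039832823658212672700084379976686617978926763952518368599797278407889888666861338152194039440863082201592396435883894095869588113623295431799742863894716917242129264534548705673922680891116955914720329799301806351597212893395500074449054632667767921798934663982406250203695880082814816274500057813518577278592951672185185081427908253396521295129401137373971442871463920674492883113749308901834333546517689872444245851983429708731312678928758353640642823353170997111500348824291562001051545420754638201333817616 (4 * i)) 15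

/-- The distance to the representative. -/
def lvl (i : ℕ) : ℕ := Nat.land (Nat.shiftRight 6463401214262201460026238250084215262073771250857623297288777994236022030867827129974854747602147736513985511574621914951487755953199962750455842719530201181692986763777794076934788315513414292233929732352973204631333166306808807409265771146709455616023621324330759174041547033327331107764501490328400567734180769926475554261771349188390552068012348469256926792155182392538405013629724826472609581342511729172620838992434617072258422915128238557457795364021794138265052900767129880797766581714336454725595318069601961498249246890845576935526347776573458222894667433494186579502073626008249788947597022995318791340544 (4 * i)) 15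

/-- The congruence reducing the distance. -/
def par (i : ℕ) : ℕ := Nat.land (Nat.shiftRight 20245530577569910164850328871517534767590648431342427370738464810229488975696671761749298977077820536664484061192044794337952453657709443449209544442301384051586520033021106442556060700662046820663412648972773001748256137989360296458845917958647645243711234365303847341135354179404697291536649226060404093995876029826732400446971643845968974066613392838790198804480293182494729025350694195923937212574130792334216172535323040931748926723426395811318364035612512168875202107920597246667442132617801952897471731922746202317896678879232412462430234576085275885837819065296822236276306637046667296660898653496272511696896 (4 * i)) 15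

/-- The representatives. -/
def rep (c : ℕ) : ℕ := ([0, 1, 3, 7] : List ℕ).getD c 0

theorem cls_lt : ∀ i : Fin 512, cls i < 4 := by decide +kernel

theorem cls_zero : ∀ i : Fin 512, cls i = 0 → (i : ℕ) = 0 := by decide +kernel

theorem step : ∀ i : Fin 512, if lvl i = 0 then (i : ℕ) = rep (cls i) else
    (cls (enc (act (gen (par i)) (dec i))) = cls i ∧
      lvl (enc (act (gen (par i)) (dec i))) < lvl i) := by decide +kernel

theorem counts : ((List.range 512).filter fun i => cls i == 1).length = 21 ∧
    ((List.range 512).filter fun i => cls i == 2).length = 210 ∧
    ((List.range 512).filter fun i => cls i == 3).length = 280 := by decide +kernel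

/-- The diagonal entries are fixed by squaring. -/
def Fixd (t : Hrm K4) : Bool :=
  decide (t.d1 * t.d1 = t.d1) && decide (t.d2 * t.d2 = t.d2) && decide (t.d3 * t.d3 = t.d3)

theorem dec_fixd : ∀ i : Fin 512, Fixd (dec i) = true ∧ enc (dec i) = i := by decide +kernel

theorem enc_spec : ∀ a b c x y z : K4, Fixd ⟨a, b, c, x, y, z⟩ = true →
    enc ⟨a, b, c, x, y, z⟩ < 512 ∧ dec (enc ⟨a, b, c, x, y, z⟩) = ⟨a, b, c, x, y, z⟩ := by
  decide +kernel

/-- The codes fixed by a congruence. -/
def fixList (P : Fin 3 → Fin 3 → K4) : List ℕ :=
  (List.range 512).filter fun i => decide (act P (dec i) = dec i)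

theorem fix_single : ∀ a c b : K4, a * b = 0 → ¬ (a = 0 ∧ b = 0 ∧ c = 0) →
    (fixList (upper a c b)).length ≤ 32 := by decide +kernel

/-- The codes fixed by both root groups with one entry absent. -/
def fixBoth (s : Bool) : List ℕ :=
  (List.range 512).filter fun i =>
    ([1, 2] : List ℕ).all fun n =>
      decide (act (upper 0 (K4.ofN n) 0) (dec i) = dec i) &&
      (bif s then decide (act (upper (K4.ofN n) 0 0) (dec i) = dec i)
        else decide (act (upper 0 0 (K4.ofN n)) (dec i) = dec i))

theorem fix_both : ∀ s, (fixBoth s).length ≤ 16 := by decide +kernel

end H72.U6M
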